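import Cfsg.Agent.H875.XE8.Line

/-!
# S4791 + S4927, row `E₈(q)`: lower bounds for `kJ`, `ord_p(q) ∈ {5, 8, 10, 12}` (helper875)

* `cnt5`, `cnt10` : `(p - 1) / 10 * 5 + l(B₀) ≤ kJ`;
* `cnt8` : `(p - 1) / 8 * 4 + l(B₀) ≤ kJ`;
* `cnt12` : `(p - 1) / 12 * 7 + l(B₀) ≤ kJ`.
-/

set_option autoImplicit false
set_option linter.unusedSectionVars false

namespace Cfsg.Agent.H875.XE8

open CoxeterSystem Cfsg Cfsg.Lie Cfsg.Lie.ChevalleyDatum
open Cfsg.Agent.ChevalleyStructure Cfsg.Agent.ChevalleyStructure.Elts Cfsg.Agent.ChevalleyStructure.CoxeterGeom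
  Cfsg.Agent.ChevalleyStructure.CoxeterGeomTypes Cfsg.Agent.ChevalleyStructure.NPerm
open Cfsg.Agent.Nodes.RGDChev Cfsg.Agent.H129.TorusChar Cfsg.Agent.H129.WData Cfsg.Agent.H210.EL
open Cfsg.Agent.H944.Tab Cfsg.Agent.H942.E8Tab
open Cfsg.Agent.H440.TD4 (Lam)
open Cfsg.Agent.H208.XR (ModelN exists_modelN_untw)
open Cfsg.Agent.H322.XR Cfsg.Agent.H352.KE
open Cfsg.Agent.H682.KB
open Cfsg.Agent.H508.XR (kJ)

universe u v

variable {F : Type} [Field F] [Fintype F] {p : ℕ} [hpp : Fact p.Prime] {S : Type v} [Group S] [Finite S]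
  {I : Ideal AlgInt}

/-- the model on `S` -/
theorem exists_mod (h11 : 11 ≤ p) (hpF : (p : F) ≠ 0) (f : S ≃* ↥(chevE8.group F)) (m : ℕ)
    (Cw : List (Fin 8 × Mat 8)) : ∃ X : (Fin 8 → ZMod (p ^ m)) → S, ModelN e8T' (p ^ m) (Fintype.card F)
      (AddEquiv.refl (Fin 8 → ℤ)) (CoxeterMatrix.E₈.toCoxeterSystem.wordProd (Cw.map Prod.fst)) X := by
  obtain ⟨X, H⟩ := exists_modelN_untw (p := p) (a := m) e8T' hpF (H765.KE.not_dvd_E8 h11) invC_E8
    (CoxeterMatrix.E₈.toCoxeterSystem.wordProd (Cw.map Prod.fst))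
  exact ⟨_, congr_model H f⟩

/-- the line gives `kJ` -/
theorem cnt_line {m : ℕ} (hM : IsPModular p I) (h11 : 11 ≤ p) (hm : m ≠ 0) (hS : ¬ p ^ (2 * m + 1) ∣ Nat.card S)
    {Cw : List (Fin 8 × Mat 8)} (hw : ChainOK H682.KB.Am Cw) {X : (Fin 8 → ZMod (p ^ m)) → S}
    (H : ModelN e8T' (p ^ m) (Fintype.card F) (AddEquiv.refl (Fin 8 → ℤ))
      (CoxeterMatrix.E₈.toCoxeterSystem.wordProd (Cw.map Prod.fst)) X) {P : Q4}
    (hq : (Fintype.card F : ZMod (p ^ m)) ^ 4 = ev (Fintype.card F : ZMod (p ^ m)) P) {b : List Q4}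
    (eb : EigQ P (hd Cw) (0, 1, 0, 0) b) {k : ℕ × ℕ × ℕ} (hr : RootOK chevE8 8 P k b) {y c : S} {n : ℕ}
    (h : Pr p m (X (vv (Fintype.card F : ZMod (p ^ m)) b)) y c n) {e : ℕ}
    (hfus : ∀ (g : S) (i : ℕ), ¬ p ∣ i → g * X (vv (Fintype.card F : ZMod (p ^ m)) b) ^ p ^ (m - 1) * g⁻¹ =
      (X (vv (Fintype.card F : ZMod (p ^ m)) b) ^ p ^ (m - 1)) ^ i → (i : ZMod p) ^ e = 1) :
    (p - 1) / e * orderOf (n : ZMod p) + blockRank p (principalBlock I S) ≤ kJ p I S := by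
  have ho : orderOf (X (vv (Fintype.card F : ZMod (p ^ m)) b) ^ p ^ (m - 1)) = p := orderOf_pow_pred hm h.ox
  refine H76.KJ.kJ_of_elt (by omega) hM _ ho e _ (fun g i hg => hfus g i (fun hi => ?_) hg)
    (rank_line hA hw H hM h11 hm hS hq eb hr h)
  rw [orderOf_dvd_iff_pow_eq_one.1 (ho.symm ▸ hi : orderOf _ ∣ i), conj_eq_one_iff, ← orderOf_eq_one_iff, ho] at hg
  exact hpp.out.one_lt.ne' hg

theorem card_ne {m : ℕ} (f : S ≃* ↥(chevE8.group F)) (h : ¬ p ^ (2 * m + 1) ∣ Nat.card ↥(chevE8.group F)) :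
    ¬ p ^ (2 * m + 1) ∣ Nat.card S := by
  rwa [Nat.card_congr f.toEquiv]

/-- **`d = 5`** -/
theorem cnt5 (hM : IsPModular p I) (h11 : 11 ≤ p) (hpF : (p : F) ≠ 0)
    (hd : orderOf (Fintype.card F : ZMod p) = 5) (f : S ≃* ↥(chevE8.group F)) :
    (p - 1) / 10 * 5 + blockRank p (principalBlock I S) ≤ kJ p I S := by
  obtain ⟨m, hm, hS, hqd⟩ := exists_m h11 hd (by norm_num)
  have hq := rel5 hm hd hqd
  have hp2 : p ≠ 2 := by omega
  obtain ⟨X, H⟩ := exists_mod h11 hpF f m D5.cw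
  obtain ⟨c, hpr⟩ := pr_of_fra (fra hA D5.cw_ok H) hq hqd D5.cv_ok D5.comm D5.eb D5.ea D5.evb D5.eva (k := 1) (k' := 4)
    (by rw [ev_x, pow_one]) (by norm_num) D5.ib D5.ia
  have ho : orderOf ((Fintype.card F ^ 4 : ℕ) : ZMod p) = 5 := order_cast_pow hd (by norm_num)
  have h1 := cnt_line hM h11 hm (card_ne f hS) D5.cw_ok H hq D5.eb root5 hpr (e := 10) (fun g i hi hg => by
    have h2 := ten_of (a := (i : ZMod p)) (b := 1) (H682.KB.cast_ne_zero hi) one_ne_zero (fun hn => ?_) (fun hn => ?_)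
      (fun hn => ?_) h11 (dvd_sub_one hd (by norm_num))
    · rwa [one_pow] at h2
    · rw [one_pow]
      exact fus_line hA D5.cw_ok H hp2 hm hq D5.eb tab8 len8 (K := [true, false, true, false, false]) (by decide)
        D5.ct20 hn g i hg
    · rw [one_pow]
      exact fus_line hA D5.cw_ok H hp2 hm hq D5.eb tab8 len8 (K := [true, true, true, true, false]) (by decide)
        D5.ct30 hn g i hg
    · rw [one_pow]
      exact fus_line hA D5.cw_ok H hp2 hm hq D5.eb tab8 len8 (K := [true, true, false, false, true, false]) (by decide)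
        D5.ct50 hn g i hg)
  rwa [ho] at h1

/-- **`d = 10`** -/
theorem cnt10 (hM : IsPModular p I) (h11 : 11 ≤ p) (hpF : (p : F) ≠ 0)
    (hd : orderOf (Fintype.card F : ZMod p) = 10) (f : S ≃* ↥(chevE8.group F)) :
    (p - 1) / 10 * 5 + blockRank p (principalBlock I S) ≤ kJ p I S := by
  obtain ⟨m, hm, hS, hqd⟩ := exists_m h11 hd (by norm_num)
  have hq := rel10 hm hd hqd
  have hp2 : p ≠ 2 := by omega
  obtain ⟨X, H⟩ := exists_mod h11 hpF f m D10.cw
  obtain ⟨c, hpr⟩ := pr_of_fra (fra hA D10.cw_ok H) hq hqd D10.cv_ok D10.comm D10.eb D10.ea D10.evb D10.eva (k := 8)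
    (k' := 2) (by exact ev_pow [true, false, false, false] hq) (by norm_num) D10.ib D10.ia
  have ho : orderOf ((Fintype.card F ^ 2 : ℕ) : ZMod p) = 5 := order_cast_pow hd (by norm_num)
  have h10 := dvd_sub_one hd (by norm_num)
  have h1 := cnt_line hM h11 hm (card_ne f hS) D10.cw_ok H hq D10.eb root10 hpr (e := 10) (fun g i hi hg => by
    have h2 := ten_of (a := (i : ZMod p)) (b := 1) (H682.KB.cast_ne_zero hi) one_ne_zero (fun hn => ?_) (fun hn => ?_)
      (fun hn => ?_) h11 (by omega)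
    · rwa [one_pow] at h2
    · rw [one_pow]
      exact fus_line hA D10.cw_ok H hp2 hm hq D10.eb tab8 len8 (K := [true, false, true, false, false]) (by decide)
        D10.ct20 hn g i hg
    · rw [one_pow]
      exact fus_line hA D10.cw_ok H hp2 hm hq D10.eb tab8 len8 (K := [true, true, true, true, false]) (by decide)
        D10.ct30 hn g i hg
    · rw [one_pow]
      exact fus_line hA D10.cw_ok H hp2 hm hq D10.eb tab8 len8 (K := [true, true, false, false, true, false]) (by decide)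
        D10.ct50 hn g i hg)
  rwa [ho] at h1

/-- **`d = 8`** -/
theorem cnt8 (hM : IsPModular p I) (h11 : 11 ≤ p) (hpF : (p : F) ≠ 0)
    (hd : orderOf (Fintype.card F : ZMod p) = 8) (f : S ≃* ↥(chevE8.group F)) :
    (p - 1) / 8 * 4 + blockRank p (principalBlock I S) ≤ kJ p I S := by
  obtain ⟨m, hm, hS, hqd⟩ := exists_m h11 hd (by norm_num)
  have hq := rel8 hm hd hqd
  have hp2 : p ≠ 2 := by omega
  obtain ⟨X, H⟩ := exists_mod h11 hpF f m D8.cw
  obtain ⟨c, hpr⟩ := pr_of_fra (fra hA D8.cw_ok H) hq hqd D8.cv_ok D8.comm D8.eb D8.ea D8.evb D8.eva (k := 6)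
    (k' := 2) (by exact ev_pow [true, true, false] hq) (by norm_num) D8.ib D8.ia
  have ho : orderOf ((Fintype.card F ^ 2 : ℕ) : ZMod p) = 4 := order_cast_pow hd (by norm_num)
  have h1 := cnt_line hM h11 hm (card_ne f hS) D8.cw_ok H hq D8.eb root8 hpr (e := 8) (fun g i hi hg => by
    refine fus_line hA D8.cw_ok H hp2 hm hq D8.eb tab8 len8 (K := [true, false, false, false]) (by decide)
      D8.ct8 ?_ g i hg
    intro hn
    have h2 : p ∈ [2, 2, 2, 2, 2, 2, 3, 3, 5] := dvd_cases (by norm_num) (by norm_num; exact hn)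
    simp only [List.mem_cons, List.not_mem_nil, or_false] at h2
    omega)
  rwa [ho] at h1

/-- **`d = 12`** -/
theorem cnt12 (hM : IsPModular p I) (h11 : 11 ≤ p) (hpF : (p : F) ≠ 0)
    (hd : orderOf (Fintype.card F : ZMod p) = 12) (f : S ≃* ↥(chevE8.group F)) :
    (p - 1) / 12 * 7 + blockRank p (principalBlock I S) ≤ kJ p I S := by
  obtain ⟨m, hm, hS, hqd⟩ := exists_m h11 hd (by norm_num)
  have hq := rel12 hm hd hqd
  have hp2 : p ≠ 2 := by omega
  obtain ⟨X, H⟩ := exists_mod h11 hpF f m D12.cw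
  obtain ⟨c, hpr⟩ := pr_of_fra (fra hA D12.cw_ok H) hq hqd D12.cv_ok D12.comm D12.eb D12.ea D12.evb D12.eva (k := 3)
    (k' := 9) (by exact ev_pow [true, true] hq) (by norm_num) D12.ib D12.ia
  obtain ⟨c', hpr'⟩ := pr_of_fra (fra hA D12.cw_ok H) hq hqd D12.cv'_ok D12.comm' D12.eb' D12.ea' D12.evb' D12.eva'
    (k := 4) (k' := 8) (by exact ev_pow [true, false, false] hq) (by norm_num) D12.ib' D12.ia'
  have ho : orderOf ((Fintype.card F ^ 9 : ℕ) : ZMod p) = 4 := order_cast_pow hd (by norm_num)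
  have ho' : orderOf ((Fintype.card F ^ 8 : ℕ) : ZMod p) = 3 := order_cast_pow hd (by norm_num)
  have h12 := dvd_sub_one hd (by norm_num)
  have hpn : ∀ {L : List ℕ}, (∀ x ∈ L, x.Prime) → (∀ x ∈ L, ¬ 12 ∣ x - 1) → ¬ p ∣ L.prod := by
    intro L hL hL' hn
    exact hL' p (dvd_cases hL hn) h12
  have hq1 := rel_bar hm hq
  have hmem : ∀ {b : List Q4}, EigQ (-1, 0, 1, 0) (H129.WData.hd D12.cw) (0, 1, 0, 0) b →
      (vv (Fintype.card F : ZMod (p ^ m)) b : Fin 8 → ZMod (p ^ m)) ∈ Lam e8T' (p ^ m) (Fintype.card F)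
        (AddEquiv.refl (Fin 8 → ℤ)) (CoxeterMatrix.E₈.toCoxeterSystem.wordProd (D12.cw.map Prod.fst)) := by
    intro b eb
    rw [mem_lam_iff hA D12.cw_ok]
    have h := eb.eigOK hq
    rwa [ev_x] at h
  have hps : ∀ (K : List Bool) (b : List Q4), Even (bv K 0) →
      psum chevE8 (bar hm (vv (Fintype.card F : ZMod (p ^ m)) b : Fin 8 → ZMod (p ^ m))) (bv K 0) =
        2 * ev (Fintype.card F : ZMod p) (ps4 (-1, 0, 1, 0) K b R8) := by
    intro K b hK
    rw [bar_vv hm, psum_vv hq1 tab8 len8 K b hK]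
  have hne : ∀ (g : S) (i : ℕ), g * X (vv (Fintype.card F : ZMod (p ^ m)) D12.B) ^ p ^ (m - 1) * g⁻¹ ≠
      (X (vv (Fintype.card F : ZMod (p ^ m)) D12.B') ^ p ^ (m - 1)) ^ i := by
    refine not_fus_bar H hm (hmem D12.eb') (hmem D12.eb) (k := 12)
      (hps [true, true, false, false] D12.B' (by decide)) (hps [true, true, false, false, false] D12.B' (by decide))
      (hps [true, true, false, false] D12.B (by decide)) (hps [true, true, false, false, false] D12.B (by decide)) ?_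
    rw [D12.ps12, D12.ps12', D12.ps24, D12.ps24']
    have h1 := ev_ne_zero hq1 D12.ctx
      (hpn (L := [2, 2, 2, 2, 2, 2, 2, 2, 2, 2, 2, 2, 2, 3, 3, 3, 3, 3, 3, 3, 3, 5, 5, 5, 7, 7, 7, 11, 19, 199])
          (by norm_num) (by decide))
    rw [ev_add, ev_sm, ev_mul hq1, ev_mul hq1, ev_mul hq1, ev_mul hq1] at h1
    have h2 : (2 : ZMod p) ≠ 0 := by
      intro h2
      have h3 : ((2 : ℕ) : ZMod p) = 0 := by exact_mod_cast h2
      rw [ZMod.natCast_eq_zero_iff] at h3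
      exact hp2 ((Nat.prime_dvd_prime_iff_eq hpp.out Nat.prime_two).1 h3)
    have h3 := mul_ne_zero (pow_ne_zero 3 h2) h1
    refine fun h0 => h3 ?_
    rw [← h0]
    push_cast
    ring
  have hox : orderOf (X (vv (Fintype.card F : ZMod (p ^ m)) D12.B) ^ p ^ (m - 1)) = p := orderOf_pow_pred hm hpr.ox
  have hox' : orderOf (X (vv (Fintype.card F : ZMod (p ^ m)) D12.B') ^ p ^ (m - 1)) = p := orderOf_pow_pred hm hpr'.ox
  have h1 := H76.KJ.kJ_of_two (by omega) hM _ _ hox hox' 12 12 4 3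
    (fun g i hg => fus_line hA D12.cw_ok H hp2 hm hq D12.eb tab8 len8 (K := [true, true, false, false]) (by decide)
      D12.ct12 (hpn (L := [2, 2, 2, 2, 2, 3, 3, 3, 5, 7]) (by norm_num) (by decide)) g i hg)
    (fun g i hg => fus_line hA D12.cw_ok H hp2 hm hq D12.eb' tab8 len8 (K := [true, true, false, false]) (by decide)
      D12.ct12' (hpn (L := [2, 2, 2, 2, 3, 3, 3, 3, 5, 7]) (by norm_num) (by decide)) g i hg) hne
    (by
      have := rank_line hA D12.cw_ok H hM h11 hm (card_ne f hS) hq D12.eb root12 hpr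
      rwa [ho] at this)
    (by
      have := rank_line hA D12.cw_ok H hM h11 hm (card_ne f hS) hq D12.eb' root12' hpr'
      rwa [ho'] at this)
  omega

end Cfsg.Agent.H875.XE8
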