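import Cfsg.Agent.H875.XE8.Cert
import Cfsg.Agent.H765.KE.Ord
import Cfsg.Agent.H76.KJ.Basic

/-!
# S4791 + S4927, row `E₈(q)`: lines of elements of order `p` (helper875)

`X` the torus model modulo `p ^ m` (helper208, `ModelN`), `|S|_p = p ^ (2 m)`; `x = X (B) ^ (p ^ (m - 1))` for a vector `B` of
helper682: the centralizer of `x` is the centralizer of `X (B)` (helper322), so helper682's `rank_pair` gives the rank.
-/

set_option autoImplicit false
set_option linter.unusedSectionVars false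

namespace Cfsg.Agent.H875.XE8

open CoxeterSystem Cfsg Cfsg.Lie Cfsg.Lie.ChevalleyDatum
open Cfsg.Agent.ChevalleyStructure Cfsg.Agent.ChevalleyStructure.Elts Cfsg.Agent.ChevalleyStructure.CoxeterGeom
  Cfsg.Agent.ChevalleyStructure.CoxeterGeomTypes Cfsg.Agent.ChevalleyStructure.NPerm
open Cfsg.Agent.Nodes.RGDChev Cfsg.Agent.H129.TorusChar Cfsg.Agent.H129.WData Cfsg.Agent.H210.EL
open Cfsg.Agent.H944.Tab Cfsg.Agent.H942.E8Tab
open Cfsg.Agent.H944.RootVals (ms)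
open Cfsg.Agent.H440.TD4 (Lam)
open Cfsg.Agent.H208.XR (ModelN exists_modelN_untw)
open Cfsg.Agent.H322.XR Cfsg.Agent.H352.KE
open Cfsg.Agent.H682.KB (Q4 ev vv ev_x ev_one EigQ Pr eigOK_smul X_order X_pow ps4 mul4 bv rank_pair)
open Cfsg.Agent.H508.XR (kJ)

universe u v

/-! ### the pair -/

section pr

variable {D : ChevalleyDatum} {l : ℕ} {M : CoxeterMatrix (Fin l)} {hp : IsType D l M} {F : Type u} [Field F] [Fintype F]
  {p m : ℕ} [hpp : Fact p.Prime] {A : Mat l} {Cw : List (Fin l × Mat l)} {G : Type v} [Group G]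
  {X : (Fin l → ZMod (p ^ m)) → G} {P : Q4}

/-- helper682's pair, from `Fra` -/
theorem pr_of_fra (H : Fra D l F (p ^ m) A (hd Cw) G X)
    (hq : (Fintype.card F : ZMod (p ^ m)) ^ 4 = ev (Fintype.card F : ZMod (p ^ m)) P) {d : ℕ}
    (hqd : (Fintype.card F : ZMod (p ^ m)) ^ d = 1) {Cv : List (Fin l × Mat l)}
    (hv : ChainOK A Cv) (hc : CommOK (hd Cv) (hd Cw)) {b a : List Q4}
    (eb : EigQ P (hd Cw) (0, 1, 0, 0) b) (ea : EigQ P (hd Cw) (0, 1, 0, 0) a)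
    (evb : EigQ P (hd Cv) (1, 0, 0, 0) b) {s : Q4} (eva : EigQ P (hd Cv) s a) {k k' : ℕ}
    (hs : ev (Fintype.card F : ZMod (p ^ m)) s = (Fintype.card F : ZMod (p ^ m)) ^ k) (hk : k + k' = d)
    (ib : ∃ i : Fin l, b.getD i (0, 0, 0, 0) = (1, 0, 0, 0)) (ia : ∃ i : Fin l, a.getD i (0, 0, 0, 0) = (1, 0, 0, 0)) :
    ∃ c, Pr p m (X (vv (Fintype.card F : ZMod (p ^ m)) b)) (X (vv (Fintype.card F : ZMod (p ^ m)) a)) c
      (Fintype.card F ^ k') := by
  have : NeZero (p ^ m) := ⟨pow_ne_zero _ hpp.out.ne_zero⟩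
  have hX : ∀ a b, EigOK (hd Cw) (Fintype.card F : ZMod (p ^ m)) a → EigOK (hd Cw) (Fintype.card F : ZMod (p ^ m)) b →
      X (a + b) = X a * X b := H.add
  have hX1 : ∀ a, EigOK (hd Cw) (Fintype.card F : ZMod (p ^ m)) a → X a = 1 → a = 0 := H.inj
  set q : ZMod (p ^ m) := (Fintype.card F : ZMod (p ^ m)) with hqdef
  have eb' : EigOK (hd Cw) q (vv q b : Fin l → ZMod (p ^ m)) := by
    have h := eb.eigOK hq
    rwa [ev_x] at h
  have ea' : EigOK (hd Cw) q (vv q a : Fin l → ZMod (p ^ m)) := by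
    have h := ea.eigOK hq
    rwa [ev_x] at h
  obtain ⟨c, hc⟩ := H.act Cv hv hc
  refine ⟨c, ?_, ?_, ?_, ?_, ?_⟩
  · obtain ⟨i, hi⟩ := ib
    exact X_order hX hX1 eb' i (by unfold vv; rw [hi]; exact ev_one)
  · obtain ⟨i, hi⟩ := ia
    exact X_order hX hX1 ea' i (by unfold vv; rw [hi]; exact ev_one)
  · rw [← hX _ _ eb' ea', ← hX _ _ ea' eb', add_comm]
  · have h1 := hc (vv q b) (vv q b) eb' eb' (fun j => by
      have h2 := evb.eigOK hq j
      rwa [ev_one, one_mul] at h2)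
    rwa [mul_inv_eq_iff_eq_mul] at h1
  · have h1 := hc (vv q a) (fun n => ((Fintype.card F ^ k' : ℕ) : ZMod (p ^ m)) * vv q a n) ea'
      (H682.KB.eigOK_smul ea' _) (fun j => by
        have h2 := H682.KB.eigOK_smul (eva.eigOK hq) ((Fintype.card F ^ k' : ℕ) : ZMod (p ^ m)) j
        rw [h2, hs, Nat.cast_pow, ← hqdef, ← mul_assoc, ← pow_add, hk, hqd, one_mul])
    rw [h1, X_pow hX ea']

end pr

/-! ### reduction modulo `p` -/

section bar

variable {p m : ℕ} [hpp : Fact p.Prime]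

theorem castHom_ev (hm : m ≠ 0) (q : ZMod (p ^ m)) (v : Q4) :
    ZMod.castHom (dvd_pw hm) (ZMod p) (ev q v) = ev (ZMod.castHom (dvd_pw hm) (ZMod p) q) v := by
  unfold ev
  simp only [map_add, map_mul, map_pow, map_intCast]

theorem bar_vv (hm : m ≠ 0) {l : ℕ} (n : ℕ) (B : List Q4) :
    bar hm (vv (n : ZMod (p ^ m)) B : Fin l → ZMod (p ^ m)) = vv (n : ZMod p) B := by
  funext i
  unfold bar vv
  rw [castHom_ev hm, map_natCast]

theorem rel_bar (hm : m ≠ 0) {n : ℕ} {P : Q4} (h : (n : ZMod (p ^ m)) ^ 4 = ev (n : ZMod (p ^ m)) P) :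
    (n : ZMod p) ^ 4 = ev (n : ZMod p) P := by
  have h1 := congrArg (ZMod.castHom (dvd_pw hm) (ZMod p)) h
  rwa [map_pow, castHom_ev hm, map_natCast] at h1

/-- the power sums of a vector of helper682 -/
theorem psum_vv {D : ChevalleyDatum} {l : ℕ} {q : ZMod p} {P : Q4} (hq : q ^ 4 = ev q P) {L : List (List ℕ)}
    (hL : chkTab D l L = true) (hl : ∀ r ∈ L, r.length ≤ l) (K : List Bool) (B : List Q4) (hK : Even (bv K 0)) :
    psum D (vv q B : Fin l → ZMod p) (bv K 0) = 2 * ev q (ps4 P K B L) := by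
  rw [← H682.KB.psum_eq hq hL hl K B hK]
  unfold psum ms
  rw [Multiset.map_map]
  rfl

theorem ev_ne_zero {q : ZMod p} {P : Q4} (hq : q ^ 4 = ev q P) {u C : Q4} {n : ℤ}
    (h : mul4 P u C = (n, 0, 0, 0)) (hn : ¬ p ∣ n.natAbs) : ev q C ≠ 0 := by
  intro h0
  have h1 : ev q u * ev q C = n := by rw [← H682.KB.ev_mul hq, h, H682.KB.ev_int]
  rw [h0, mul_zero] at h1
  exact hn (Int.natCast_dvd.1 ((ZMod.intCast_zmod_eq_zero_iff_dvd n p).1 h1.symm))

theorem psum_ne_zero {D : ChevalleyDatum} {l : ℕ} (hp2 : p ≠ 2) {q : ZMod p} {P : Q4} (hq : q ^ 4 = ev q P)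
    {L : List (List ℕ)} (hL : chkTab D l L = true) (hl : ∀ r ∈ L, r.length ≤ l) {K : List Bool} {B : List Q4}
    (hK : Even (bv K 0)) {u : Q4} {n : ℤ} (h : mul4 P u (ps4 P K B L) = (n, 0, 0, 0)) (hn : ¬ p ∣ n.natAbs) :
    psum D (vv q B : Fin l → ZMod p) (bv K 0) ≠ 0 := by
  rw [psum_vv hq hL hl K B hK]
  refine mul_ne_zero ?_ (ev_ne_zero hq h hn)
  intro h2
  have h3 : ((2 : ℕ) : ZMod p) = 0 := by exact_mod_cast h2
  rw [ZMod.natCast_eq_zero_iff] at h3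
  exact hp2 ((Nat.prime_dvd_prime_iff_eq hpp.out Nat.prime_two).1 h3)

end bar

/-! ### the line -/

section line

variable {D : ChevalleyDatum} {l : ℕ} {M : CoxeterMatrix (Fin l)} {hp : IsType D l M} {F : Type u} [Field F] [Fintype F]
  {p m : ℕ} [hpp : Fact p.Prime] {A : Mat l} {Cw : List (Fin l × Mat l)} {S : Type v} [Group S] [Finite S]
  {X : (Fin l → ZMod (p ^ m)) → S} {P : Q4} {I : Ideal AlgInt}

theorem orderOf_pow_pred {x : S} (hm : m ≠ 0) (hx : orderOf x = p ^ m) : orderOf (x ^ p ^ (m - 1)) = p := by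
  rw [orderOf_pow' x (pow_ne_zero _ hpp.out.ne_zero), hx,
    Nat.gcd_eq_right (pow_dvd_pow p (Nat.sub_le m 1)), Nat.pow_div (Nat.sub_le m 1) hpp.out.pos,
    show m - (m - 1) = 1 by omega, pow_one]

/-- **The rank of the centralizer of an element of order `p`.** -/
theorem rank_line (hA : ∀ i j, A i j = cartanOf D l i j) (hw : ChainOK A Cw)
    (H : ModelN hp (p ^ m) (Fintype.card F) (AddEquiv.refl (Fin l → ℤ)) (M.toCoxeterSystem.wordProd (Cw.map Prod.fst)) X)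
    (hM : IsPModular p I) (h11 : 11 ≤ p) (hm : m ≠ 0) (hS : ¬ p ^ (2 * m + 1) ∣ Nat.card S)
    (hq : (Fintype.card F : ZMod (p ^ m)) ^ 4 = ev (Fintype.card F : ZMod (p ^ m)) P)
    {b : List Q4} (eb : EigQ P (hd Cw) (0, 1, 0, 0) b) {k : ℕ × ℕ × ℕ} (hr : RootOK D l P k b) {y c : S} {n : ℕ}
    (h : Pr p m (X (vv (Fintype.card F : ZMod (p ^ m)) b)) y c n) :
    orderOf (n : ZMod p) ≤ blockRank p (principalBlock I
      ↥(Subgroup.centralizer ({X (vv (Fintype.card F : ZMod (p ^ m)) b) ^ p ^ (m - 1)} : Set S))) := by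
  have hmem : (vv (Fintype.card F : ZMod (p ^ m)) b : Fin l → ZMod (p ^ m)) ∈
      Lam hp (p ^ m) (Fintype.card F) (AddEquiv.refl (Fin l → ℤ)) (M.toCoxeterSystem.wordProd (Cw.map Prod.fst)) := by
    rw [mem_lam_iff hA hw]
    have h := eb.eigOK hq
    rwa [ev_x] at h
  rw [centralizer_bar H hm hmem (hr.spec h11 hm hq)]
  exact rank_pair hM hm hS h

/-- fusion of a line -/
theorem fus_line (hA : ∀ i j, A i j = cartanOf D l i j) (hw : ChainOK A Cw)
    (H : ModelN hp (p ^ m) (Fintype.card F) (AddEquiv.refl (Fin l → ℤ)) (M.toCoxeterSystem.wordProd (Cw.map Prod.fst)) X)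
    (hp2 : p ≠ 2) (hm : m ≠ 0)
    (hq : (Fintype.card F : ZMod (p ^ m)) ^ 4 = ev (Fintype.card F : ZMod (p ^ m)) P)
    {b : List Q4} (eb : EigQ P (hd Cw) (0, 1, 0, 0) b) {L : List (List ℕ)}
    (hL : chkTab D l L = true) (hl : ∀ r ∈ L, r.length ≤ l) {K : List Bool}
    (hK : Even (bv K 0)) {u : Q4} {n : ℤ} (h : mul4 P u (ps4 P K b L) = (n, 0, 0, 0)) (hn : ¬ p ∣ n.natAbs) (g : S) (i : ℕ)
    (hg : g * X (vv (Fintype.card F : ZMod (p ^ m)) b) ^ p ^ (m - 1) * g⁻¹ =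
      (X (vv (Fintype.card F : ZMod (p ^ m)) b) ^ p ^ (m - 1)) ^ i) : (i : ZMod p) ^ bv K 0 = 1 := by
  have hmem : (vv (Fintype.card F : ZMod (p ^ m)) b : Fin l → ZMod (p ^ m)) ∈
      Lam hp (p ^ m) (Fintype.card F) (AddEquiv.refl (Fin l → ℤ)) (M.toCoxeterSystem.wordProd (Cw.map Prod.fst)) := by
    rw [mem_lam_iff hA hw]
    have h := eb.eigOK hq
    rwa [ev_x] at h
  refine fus_pow_bar H hm hmem (k := bv K 0) rfl ?_ g i hg
  rw [bar_vv hm]
  exact psum_ne_zero hp2 (rel_bar hm hq) hL hl hK h hn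

end line

end Cfsg.Agent.H875.XE8
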